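import Mathlib

namespace Groth.Agent.H5.UR7

open TensorProduct KaehlerDifferential

universe u

theorem span_one_tmul_D (A B : Type u) [CommRing A] [CommRing B] [Algebra A B]
    (K : Type u) [Field K] [Algebra B K] :
    ⊤ ≤ Submodule.span K (Set.range fun b : B => (1 : K) ⊗ₜ[B] D A B b) := by
  rintro x -
  induction x using TensorProduct.induction_on with
  | zero => exact Submodule.zero_mem _
  | add x y hx hy => exact Submodule.add_mem _ hx hy
  | tmul k ω =>
    have hω : ω ∈ Submodule.span B (Set.range (D A B)) := by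
      rw [KaehlerDifferential.span_range_derivation]; trivial
    induction hω using Submodule.span_induction with
    | mem ω h =>
      obtain ⟨b, rfl⟩ := h
      have : k ⊗ₜ[B] D A B b = k • ((1 : K) ⊗ₜ[B] D A B b) := by
        rw [TensorProduct.smul_tmul', smul_eq_mul, mul_one]
      rw [this]
      exact Submodule.smul_mem _ _ (Submodule.subset_span ⟨b, rfl⟩)
    | zero => rw [TensorProduct.tmul_zero]; exact Submodule.zero_mem _
    | add x y _ _ hx hy => rw [TensorProduct.tmul_add]; exact Submodule.add_mem _ hx hy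
    | smul c x _ hx =>
      have : k ⊗ₜ[B] (c • x) = (algebraMap B K c) • (k ⊗ₜ[B] x) := by
        rw [TensorProduct.tmul_smul, TensorProduct.smul_tmul', TensorProduct.smul_tmul',
          Algebra.smul_def, smul_eq_mul]
      rw [this]
      exact Submodule.smul_mem _ _ hx

theorem exists_basis_D (A B : Type u) [CommRing A] [CommRing B] [Algebra A B]
    [Algebra.FiniteType A B]
    (K : Type u) [Field K] [Algebra B K] (r : ℕ)
    (hr : Module.finrank K (K ⊗[B] Ω[B⁄A]) = r) :
    ∃ (b : Fin r → B) (bs : Module.Basis (Fin r) K (K ⊗[B] Ω[B⁄A])),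
      ∀ i, bs i = (1 : K) ⊗ₜ[B] D A B (b i) := by
  classical
  have hs := span_one_tmul_D A B K
  let b₀ := Module.Basis.ofSpan hs
  haveI : Module.Finite K (K ⊗[B] Ω[B⁄A]) := inferInstance
  haveI : Fintype ((linearIndepOn_empty K id).extend (Set.empty_subset
      (Set.range fun b : B => (1 : K) ⊗ₜ[B] D A B b))) :=
    FiniteDimensional.fintypeBasisIndex b₀
  have hcard : Fintype.card ((linearIndepOn_empty K id).extend (Set.empty_subset
      (Set.range fun b : B => (1 : K) ⊗ₜ[B] D A B b))) = r := by
    rw [← hr, Module.finrank_eq_card_basis b₀]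
  let e := Fintype.equivFinOfCardEq hcard
  let bs := b₀.reindex e
  have hmem : ∀ i, bs i ∈ Set.range fun b : B => (1 : K) ⊗ₜ[B] D A B b := by
    intro i
    apply Module.Basis.ofSpan_subset hs
    exact ⟨e.symm i, by simp [bs, b₀]⟩
  choose b hb using hmem
  exact ⟨b, bs, fun i => (hb i).symm⟩

end Groth.Agent.H5.UR7
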