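import Mathlib
import Groth.Agent.Lib.Helper5.UR7.A

namespace Groth.Agent.H5.UR7

open TensorProduct KaehlerDifferential

universe u

theorem exists_unramifiedAt (A B : Type u) [CommRing A] [CommRing B] [Algebra A B]
    [Algebra.FiniteType A B]
    (q : Ideal B) [q.IsPrime] (r : ℕ)
    (hr : Module.finrank q.ResidueField (q.ResidueField ⊗[B] Ω[B⁄A]) = r) :
    ∃ φ : MvPolynomial (Fin r) A →ₐ[A] B,
      letI := φ.toRingHom.toAlgebra
      Algebra.IsUnramifiedAt (MvPolynomial (Fin r) A) q := by
  obtain ⟨b, bs, hbs⟩ := exists_basis_D A B q.ResidueField r hr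
  let φ : MvPolynomial (Fin r) A →ₐ[A] B := MvPolynomial.aeval b
  refine ⟨φ, ?_⟩
  letI : Algebra (MvPolynomial (Fin r) A) B := φ.toRingHom.toAlgebra
  haveI : IsScalarTower A (MvPolynomial (Fin r) A) B :=
    IsScalarTower.of_algebraMap_eq' φ.comp_algebraMap.symm
  haveI : Algebra.FiniteType (MvPolynomial (Fin r) A) B :=
    Algebra.FiniteType.of_restrictScalars_finiteType A _ B
  show Algebra.IsUnramifiedAt (MvPolynomial (Fin r) A) q
  have hmem : (⟨q, inferInstance⟩ : PrimeSpectrum B) ∈
      Algebra.unramifiedLocus (MvPolynomial (Fin r) A) B := by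
    rw [Algebra.unramifiedLocus_eq_compl_support, Set.mem_compl_iff,
      Module.mem_support_iff_nontrivial_residueField_tensorProduct,
      not_nontrivial_iff_subsingleton]
    let ψ : q.ResidueField ⊗[B] Ω[B⁄A] →ₗ[q.ResidueField]
        q.ResidueField ⊗[B] Ω[B⁄MvPolynomial (Fin r) A] :=
      (KaehlerDifferential.map A (MvPolynomial (Fin r) A) B B).baseChange q.ResidueField
    have hψs : Function.Surjective ψ :=
      LinearMap.lTensor_surjective _ (KaehlerDifferential.map_surjective A _ B)
    have hψ0 : ψ = 0 := by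
      apply bs.ext
      intro i
      rw [hbs i, LinearMap.zero_apply]
      show (1 : q.ResidueField) ⊗ₜ[B] (KaehlerDifferential.map A (MvPolynomial (Fin r) A) B B
        (D A B (b i))) = 0
      rw [KaehlerDifferential.map_D]
      have : algebraMap B B (b i) = algebraMap (MvPolynomial (Fin r) A) B (MvPolynomial.X i) := by
        show b i = φ (MvPolynomial.X i)
        simp [φ]
      rw [this, Derivation.map_algebraMap, TensorProduct.tmul_zero]
    constructor
    intro x y
    obtain ⟨x', rfl⟩ := hψs x
    obtain ⟨y', rfl⟩ := hψs y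
    rw [hψ0, LinearMap.zero_apply, LinearMap.zero_apply]
  exact hmem

end Groth.Agent.H5.UR7
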